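import Groth.Agent.H23LGAz.ModuleSurj
import Groth.Agent.H23Az.TensorEnd
import Groth.Agent.H23Az.Ops
import Groth.Agent.H23Morita.EndEquiv

/-! # Cancellation of Azumaya algebras over LG-rings -/

set_option autoImplicit false

universe u v w w'

open TensorProduct

namespace Groth.Agent.H23LGAz

variable {R : Type u} [CommRing R]

/-- Left multiplication on the first factor. -/
noncomputable def actL (A : Type v) [Ring A] [Algebra R A] (P : Type w) [AddCommGroup P] [Module R P] :
    A →ₐ[R] Module.End R (A ⊗[R] P) where
  toFun a := (LinearMap.mulLeft R a).rTensor P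
  map_one' := by rw [LinearMap.mulLeft_one]; exact LinearMap.rTensor_id P A
  map_mul' a b := by rw [LinearMap.mulLeft_mul]; exact LinearMap.rTensor_comp _ _ _
  map_zero' := by rw [LinearMap.mulLeft_zero_eq_zero]; exact LinearMap.rTensor_zero P
  map_add' a b := TensorProduct.ext' fun c x => by simp [add_mul, TensorProduct.add_tmul]
  commutes' r := TensorProduct.ext' fun a x => by
    simp [Algebra.algebraMap_eq_smul_one, TensorProduct.smul_tmul']

/-- Endomorphisms of the second factor. -/
noncomputable def actR (A : Type v) [Ring A] [Algebra R A] (P : Type w) [AddCommGroup P] [Module R P] :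
    Module.End R P →ₐ[R] Module.End R (A ⊗[R] P) where
  toFun h := (h : P →ₗ[R] P).lTensor A
  map_one' := LinearMap.lTensor_id A P
  map_mul' a b := LinearMap.lTensor_comp _ _ _
  map_zero' := LinearMap.lTensor_zero A
  map_add' a b := LinearMap.lTensor_add _ _ _
  commutes' r := TensorProduct.ext' fun a x => by
    simp [Algebra.algebraMap_eq_smul_one, TensorProduct.tmul_smul]

theorem actL_actR (A : Type v) [Ring A] [Algebra R A] (P : Type w) [AddCommGroup P] [Module R P]
    (a : A) (h : Module.End R P) : Commute (actL (R := R) A P a) (actR A P h) :=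
  TensorProduct.ext' fun b x => by simp [actL, actR]

/-- The action of `A ⊗ End P` on `A ⊗ P`. -/
noncomputable def act (A : Type v) [Ring A] [Algebra R A] (P : Type w) [AddCommGroup P] [Module R P] :
    A ⊗[R] Module.End R P →ₐ[R] Module.End R (A ⊗[R] P) :=
  Algebra.TensorProduct.lift (actL A P) (actR A P) (actL_actR A P)

theorem act_tmul (A : Type v) [Ring A] [Algebra R A] (P : Type w) [AddCommGroup P] [Module R P]
    (a b : A) (h : Module.End R P) (x : P) :
    act A P (a ⊗ₜ[R] h) (b ⊗ₜ[R] x) = (a * b) ⊗ₜ[R] (h x) := by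
  rw [act, Algebra.TensorProduct.lift_tmul]
  simp [actL, actR]

section Commutant

variable (A : Type v) [Ring A] [Algebra R A] (P : Type w) [AddCommGroup P] [Module R P]

/-- Right multiplication. -/
noncomputable def rmul (a : A) : Module.End R (A ⊗[R] P) := (LinearMap.mulRight R a).rTensor P

theorem rmul_tmul (a b : A) (x : P) : rmul A P a (b ⊗ₜ[R] x) = (b * a) ⊗ₜ[R] x := by simp [rmul]

theorem rmul_comm (a : A) (z : A ⊗[R] Module.End R P) (t : A ⊗[R] P) :
    rmul A P a (act A P z t) = act A P z (rmul A P a t) := by
  induction z using TensorProduct.induction_on with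
  | zero => simp
  | add x y hx hy => simp [map_add, hx, hy]
  | tmul b h =>
    induction t using TensorProduct.induction_on with
    | zero => simp
    | add x y hx hy => simp [map_add, hx, hy]
    | tmul c x => simp [act_tmul, rmul_tmul, mul_assoc]

variable [Module.Finite R P] [Module.Projective R P] [Module.FaithfullyFlat R P]

theorem rmul_injective : Function.Injective (rmul (R := R) A P) := by
  intro a a' h
  obtain ⟨n, θ, v, hθ⟩ := H23Morita.exists_trace_eq_one (A := R) P
  have key : ∀ c : A, ∑ i, TensorProduct.rid R A ((θ i).lTensor A (rmul A P c ((1 : A) ⊗ₜ[R] v i))) = c := by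
    intro c
    simp only [rmul_tmul, one_mul, LinearMap.lTensor_tmul, TensorProduct.rid_tmul]
    rw [← Finset.sum_smul, hθ, one_smul]
  rw [← key a, ← key a', h]

theorem exists_rmul (f : Module.End R (A ⊗[R] P))
    (hf : ∀ z t, f (act A P z t) = act A P z (f t)) : ∃ c, rmul A P c = f := by
  obtain ⟨n, θ, v, hθ⟩ := H23Morita.exists_trace_eq_one (A := R) P
  refine ⟨∑ i, TensorProduct.rid R A ((θ i).lTensor A (f ((1 : A) ⊗ₜ[R] v i))),
    TensorProduct.ext' fun a x => ?_⟩
  have h1 : a ⊗ₜ[R] x = ∑ i, act A P (a ⊗ₜ[R] H23Morita.rk (θ i) x) ((1 : A) ⊗ₜ[R] v i) := by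
    simp only [act_tmul, mul_one, H23Morita.rk, LinearMap.smulRight_apply, TensorProduct.tmul_smul,
      ← Finset.sum_smul, hθ, one_smul]
  rw [rmul_tmul]
  conv_rhs => rw [h1, map_sum]
  simp only [hf, Finset.mul_sum, TensorProduct.sum_tmul]
  refine Finset.sum_congr rfl fun i _ => ?_
  induction f ((1 : A) ⊗ₜ[R] v i) using TensorProduct.induction_on with
  | zero => simp
  | add p q hp hq => simp [map_add, mul_add, TensorProduct.add_tmul, hp, hq]
  | tmul b y =>
    simp [act_tmul, H23Morita.rk, TensorProduct.tmul_smul, TensorProduct.smul_tmul']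

/-- `A ⊗ P` is projective over `A ⊗ End P`. -/
theorem projective_act {D : Type w'} [Ring D] (e : D ≃+* A ⊗[R] Module.End R P)
    [Module D (A ⊗[R] P)] (hsmul : ∀ (d : D) t, d • t = act A P (e d) t) :
    Module.Projective D (A ⊗[R] P) := by
  obtain ⟨n, θ, v, hθ⟩ := H23Morita.exists_trace_eq_one (A := R) P
  let rkl : Fin n → (P →ₗ[R] Module.End R P) := fun i =>
    { toFun := fun x => H23Morita.rk (θ i) x
      map_add' := fun x y => LinearMap.ext fun z => smul_add _ _ _
      map_smul' := fun c x => LinearMap.ext fun z => smul_comm (θ i z) c x }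
  have hsec : ∀ i (z : A ⊗[R] Module.End R P) t,
      (rkl i).lTensor A (act A P z t) = z * (rkl i).lTensor A t := by
    intro i z t
    induction z using TensorProduct.induction_on with
    | zero => simp
    | add x y hx hy => simp [map_add, add_mul, hx, hy]
    | tmul b h =>
      induction t using TensorProduct.induction_on with
      | zero => simp
      | add x y hx hy => simp only [map_add, mul_add, hx, hy]
      | tmul c x =>
        simp only [act_tmul, LinearMap.lTensor_tmul, Algebra.TensorProduct.tmul_mul_tmul]
        congr 1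
        ext z
        simp [rkl, H23Morita.rk]
  let s : A ⊗[R] P →ₗ[D] (Fin n → D) := LinearMap.pi fun i =>
    { toFun := fun t => e.symm ((rkl i).lTensor A t)
      map_add' := fun x y => by rw [map_add, map_add]
      map_smul' := fun d t => by rw [hsmul, hsec, map_mul, RingEquiv.symm_apply_apply]; rfl }
  let p : (Fin n → D) →ₗ[D] A ⊗[R] P :=
    ∑ i, (LinearMap.toSpanSingleton D _ ((1 : A) ⊗ₜ[R] v i)).comp (LinearMap.proj i)
  refine Module.Projective.of_split s p (LinearMap.ext fun t => ?_)
  simp only [p, s, LinearMap.comp_apply, LinearMap.sum_apply, LinearMap.toSpanSingleton_apply,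
    LinearMap.proj_apply, LinearMap.pi_apply, LinearMap.coe_mk, AddHom.coe_mk, hsmul,
    RingEquiv.apply_symm_apply, LinearMap.id_apply]
  induction t using TensorProduct.induction_on with
  | zero => simp
  | add x y hx hy => simp only [map_add, LinearMap.add_apply, Finset.sum_add_distrib, hx, hy]
  | tmul a x =>
    simp only [LinearMap.lTensor_tmul, act_tmul, mul_one]
    simp [rkl, H23Morita.rk, TensorProduct.tmul_smul, ← Finset.sum_smul, hθ]

end Commutant

theorem rankAtStalk_pos_azumaya (A : Type v) [Ring A] [Algebra R A] [IsAzumaya R A] (p : PrimeSpectrum R) :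
    0 < Module.rankAtStalk (R := R) A p := by
  let K := p.asIdeal.ResidueField
  have h : Module.rankAtStalk (R := R) A p = Module.finrank K (K ⊗[R] A) := Module.rankAtStalk_eq p
  rw [h]
  haveI : IsAzumaya K (K ⊗[R] A) := Groth.Agent.H23Az.isAzumaya_baseChange R K A
  obtain ⟨-, hs⟩ := (H18Az.Criterion.isAzumaya_field_iff K (K ⊗[R] A)).mp ‹_›
  exact Module.finrank_pos

theorem cancel (hR : LGRing.IsLGRing R) (A B : Type v) [Ring A] [Algebra R A] [IsAzumaya R A]
    [Ring B] [Algebra R B] [IsAzumaya R B]
    (hdeg : ∀ p : PrimeSpectrum R, Module.rankAtStalk (R := R) A p = Module.rankAtStalk (R := R) B p)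
    (P Q : Type w) [AddCommGroup P] [Module R P] [Module.Finite R P] [Module.Projective R P]
    [FaithfulSMul R P] [AddCommGroup Q] [Module R Q] [Module.Finite R Q] [Module.Projective R Q]
    [FaithfulSMul R Q]
    (e : A ⊗[R] Module.End R P ≃ₐ[R] B ⊗[R] Module.End R Q) : Nonempty (A ≃ₐ[R] B) := by
  haveI : Module.FaithfullyFlat R P := Groth.Agent.H23Az.faithfullyFlat_of_faithful P
  haveI : Module.FaithfullyFlat R Q := Groth.Agent.H23Az.faithfullyFlat_of_faithful Q
  haveI : IsAzumaya R (Module.End R P) := Groth.Agent.H23Az.isAzumaya_end P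
  haveI : IsAzumaya R (Module.End R Q) := Groth.Agent.H23Az.isAzumaya_end Q
  let D := B ⊗[R] Module.End R Q
  haveI : IsAzumaya R D := Groth.Agent.H23Az.isAzumaya_tensor R B (Module.End R Q)
  letI : Module D (A ⊗[R] P) := Module.compHom _ ((act A P).toRingHom.comp e.symm.toRingEquiv.toRingHom)
  letI : Module D (B ⊗[R] Q) := Module.compHom _ (act B Q).toRingHom
  have hA : ∀ (d : D) t, d • t = act A P (e.symm d) t := fun _ _ => rfl
  have hB : ∀ (d : D) t, d • t = act B Q d t := fun _ _ => rfl
  haveI : IsScalarTower R D (A ⊗[R] P) := ⟨fun r d t => by rw [hA, hA, map_smul, map_smul]; rfl⟩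
  haveI : IsScalarTower R D (B ⊗[R] Q) := ⟨fun r d t => by rw [hB, hB, map_smul]; rfl⟩
  haveI : Module.Finite D (A ⊗[R] P) := Module.Finite.of_restrictScalars_finite R D _
  haveI : Module.Finite D (B ⊗[R] Q) := Module.Finite.of_restrictScalars_finite R D _
  haveI : Module.Projective D (A ⊗[R] P) := projective_act A P e.symm.toRingEquiv hA
  haveI : Module.Projective D (B ⊗[R] Q) := projective_act B Q (RingEquiv.refl D) hB
  have hrank : ∀ p : PrimeSpectrum R, Module.rankAtStalk (R := R) (B ⊗[R] Q) p =
      Module.rankAtStalk (R := R) (A ⊗[R] P) p := fun p => by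
    have h := congrFun (Module.rankAtStalk_eq_of_equiv e.toLinearEquiv) p
    simp only [Module.rankAtStalk_tensorProduct, Pi.mul_apply, Groth.Agent.H23Az.rankAtStalk_end,
      hdeg p] at h ⊢
    have := Nat.mul_self_inj.mp (Nat.eq_of_mul_eq_mul_left (rankAtStalk_pos_azumaya B p) h)
    rw [this]
  obtain ⟨T⟩ := nonempty_equiv (A := D) hR (A ⊗[R] P) (B ⊗[R] Q) hrank
  let T' := T.restrictScalars R
  have hTA : ∀ z t, T' (act A P z t) = act B Q (e z) (T' t) := fun z t => by
    have := T.map_smul (e z) t
    rwa [hA, hB, e.symm_apply_apply] at this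
  have hTB : ∀ z t, T'.symm (act B Q z t) = act A P (e.symm z) (T'.symm t) := fun z t => by
    apply T'.injective
    rw [hTA, T'.apply_symm_apply, T'.apply_symm_apply, e.apply_symm_apply]
  have hex : ∀ b : B, ∃ a : A, rmul A P a =
      T'.symm.toLinearMap ∘ₗ rmul B Q b ∘ₗ T'.toLinearMap := fun b =>
    exists_rmul A P _ fun z t => by
      simp only [LinearMap.comp_apply, LinearEquiv.coe_coe, hTA, rmul_comm, hTB, e.symm_apply_apply]
  choose φ hφ using hex
  have hφ' : ∀ b t, rmul A P (φ b) t = T'.symm (rmul B Q b (T' t)) := fun b t => by rw [hφ]; rfl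
  have hadd : ∀ (a a' : A) t, rmul (R := R) A P (a + a') t = rmul A P a t + rmul A P a' t := fun a a' t => by
    induction t using TensorProduct.induction_on with
    | zero => simp
    | add x y hx hy => simp only [map_add, hx, hy]; abel
    | tmul c x => simp [rmul_tmul, mul_add, TensorProduct.add_tmul]
  have haddB : ∀ (a a' : B) t, rmul (R := R) B Q (a + a') t = rmul B Q a t + rmul B Q a' t := fun a a' t => by
    induction t using TensorProduct.induction_on with
    | zero => simp
    | add x y hx hy => simp only [map_add, hx, hy]; abel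
    | tmul c x => simp [rmul_tmul, mul_add, TensorProduct.add_tmul]
  have hsc : ∀ (r : R) (t : A ⊗[R] P), rmul A P (algebraMap R A r) t = r • t := fun r t => by
    induction t using TensorProduct.induction_on with
    | zero => simp
    | add x y hx hy => simp only [map_add, hx, hy, smul_add]
    | tmul c x => simp [rmul_tmul, Algebra.algebraMap_eq_smul_one, TensorProduct.smul_tmul']
  have hscB : ∀ (r : R) (t : B ⊗[R] Q), rmul B Q (algebraMap R B r) t = r • t := fun r t => by
    induction t using TensorProduct.induction_on with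
    | zero => simp
    | add x y hx hy => simp only [map_add, hx, hy, smul_add]
    | tmul c x => simp [rmul_tmul, Algebra.algebraMap_eq_smul_one, TensorProduct.smul_tmul']
  have hmul : ∀ (a a' : A) t, rmul (R := R) A P (a * a') t = rmul A P a' (rmul A P a t) := fun a a' t => by
    induction t using TensorProduct.induction_on with
    | zero => simp
    | add x y hx hy => simp only [map_add, hx, hy]
    | tmul c x => simp [rmul_tmul, mul_assoc]
  have hmulB : ∀ (a a' : B) t, rmul (R := R) B Q (a * a') t = rmul B Q a' (rmul B Q a t) := fun a a' t => by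
    induction t using TensorProduct.induction_on with
    | zero => simp
    | add x y hx hy => simp only [map_add, hx, hy]
    | tmul c x => simp [rmul_tmul, mul_assoc]
  have inj := rmul_injective (R := R) A P
  let F : B →ₐ[R] A :=
    { toFun := φ
      map_one' := inj <| LinearMap.ext fun t => by
        rw [hφ', ← map_one (algebraMap R B), hscB, one_smul, T'.symm_apply_apply, ← map_one (algebraMap R A),
          hsc, one_smul]
      map_mul' := fun b b' => inj <| LinearMap.ext fun t => by
        rw [hφ', hmulB, hmul, hφ', hφ', T'.apply_symm_apply]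
      map_zero' := inj <| LinearMap.ext fun t => by
        rw [hφ', ← map_zero (algebraMap R B), hscB, zero_smul, map_zero, ← map_zero (algebraMap R A),
          hsc, zero_smul]
      map_add' := fun b b' => inj <| LinearMap.ext fun t => by
        rw [hφ', haddB, map_add, hadd, hφ', hφ']
      commutes' := fun r => inj <| LinearMap.ext fun t => by
        rw [hφ', hscB, hsc, map_smul, T'.symm_apply_apply] }
  refine ⟨(AlgEquiv.ofBijective F ⟨fun b b' h => rmul_injective (R := R) B Q <| LinearMap.ext fun t => ?_,
    fun a => ?_⟩).symm⟩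
  · have hb : φ b = φ b' := h
    apply T'.symm.injective
    rw [← T'.apply_symm_apply t, ← hφ', ← hφ', hb]
  · obtain ⟨b, hb⟩ := exists_rmul B Q (T'.toLinearMap ∘ₗ rmul A P a ∘ₗ T'.symm.toLinearMap) fun z t => by
      simp only [LinearMap.comp_apply, LinearEquiv.coe_coe, hTB, rmul_comm, hTA, e.apply_symm_apply]
    refine ⟨b, inj <| LinearMap.ext fun t => ?_⟩
    show rmul A P (φ b) t = _
    rw [hφ', hb]
    simp

end Groth.Agent.H23LGAz
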