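import Groth.Agent.H21LG.Basic
import Mathlib.LinearAlgebra.Matrix.Adjugate
import Mathlib.LinearAlgebra.Dimension.StrongRankCondition
import Mathlib.LinearAlgebra.Matrix.NonsingularInverse

/-! # Matrices with polynomial entries which are surjective at some point -/

set_option autoImplicit false

universe u

open MvPolynomial

namespace Groth.Agent.H23LGAz

variable {R : Type u} [CommRing R]

/-- Over an LG-ring, a polynomial family of matrices which is surjective at some point modulo each
maximal ideal is surjective at some point. -/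
theorem exists_surjective_point (hR : LGRing.IsLGRing R) {σ C : Type} [Finite σ] [Fintype C]
    [DecidableEq C] {b : ℕ} (Φ : Matrix (Fin b) C (MvPolynomial σ R))
    (h : ∀ (m : Ideal R) [m.IsMaximal], ∃ s : σ → R,
      Function.Surjective (((Φ.map (eval s)).map (Ideal.Quotient.mk m)).mulVec)) :
    ∃ s : σ → R, Function.Surjective ((Φ.map (eval s)).mulVec) := by
  classical
  let τ := σ ⊕ (Fin b → C)
  let Φ' : Matrix (Fin b) C (MvPolynomial τ R) := Φ.map (rename Sum.inl)
  let P : MvPolynomial τ R := ∑ g : Fin b → C, X (Sum.inr g) * (Φ'.submatrix id g).det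
  have hev : ∀ (t : τ → R),
      eval t P = ∑ g : Fin b → C, t (Sum.inr g) * ((Φ.map (eval (t ∘ Sum.inl))).submatrix id g).det := by
    intro t
    simp only [P, map_sum, map_mul, eval_X, RingHom.map_det]
    refine Finset.sum_congr rfl fun g _ => ?_
    congr 2
    ext i j
    simp [Φ', eval_rename]
  obtain ⟨t, ht⟩ := H21LG.rep hR P fun m hm => by
    obtain ⟨s, hs⟩ := h m
    letI := Ideal.Quotient.field m
    set M := (Φ.map (eval s)).map (Ideal.Quotient.mk m) with hM
    have hspan : Submodule.span (R ⧸ m) (Set.range M.col) = ⊤ := by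
      rw [← Matrix.range_mulVecLin]; exact LinearMap.range_eq_top.mpr hs
    obtain ⟨f, hfmem, -, hfind⟩ := Submodule.exists_fun_fin_finrank_span_eq (R ⧸ m) (Set.range M.col)
    have hb : Module.finrank (R ⧸ m) (Submodule.span (R ⧸ m) (Set.range M.col)) = b := by
      rw [hspan, finrank_top, Module.finrank_fin_fun]
    choose g hg using hfmem
    let g' : Fin b → C := fun i => g (Fin.cast hb.symm i)
    have hind : LinearIndependent (R ⧸ m) (M.submatrix id g').col := by
      have : (M.submatrix id g').col = f ∘ Fin.cast hb.symm := by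
        funext i; rw [Function.comp_apply, ← hg]; rfl
      rw [this]
      exact hfind.comp _ (Fin.cast_injective _)
    have hunit := Matrix.linearIndependent_cols_iff_isUnit.mp hind
    rw [Matrix.isUnit_iff_isUnit_det, isUnit_iff_ne_zero] at hunit
    refine ⟨Sum.elim s (fun g => if g = g' then 1 else 0), fun hmem => hunit ?_⟩
    rw [hev] at hmem
    simp only [Sum.elim_inr, Sum.elim_comp_inl, ite_mul, one_mul, zero_mul, Finset.sum_ite_eq',
      Finset.mem_univ, if_true] at hmem
    rw [← Ideal.Quotient.eq_zero_iff_mem, RingHom.map_det] at hmem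
    exact hmem
  refine ⟨t ∘ Sum.inl, fun v => ?_⟩
  set M := Φ.map (eval (t ∘ Sum.inl))
  let Sel : (Fin b → C) → Matrix C (Fin b) R := fun g => (1 : Matrix C C R).submatrix id g
  let R₀ : Matrix C (Fin b) R :=
    ∑ g : Fin b → C, t (Sum.inr g) • (Sel g * (M.submatrix id g).adjugate)
  have hMR : M * R₀ = eval t P • (1 : Matrix (Fin b) (Fin b) R) := by
    rw [hev, Finset.sum_smul]
    simp only [R₀, Matrix.mul_sum, Matrix.mul_smul]
    refine Finset.sum_congr rfl fun g _ => ?_
    have : M * Sel g = M.submatrix id g := by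
      ext i j; simp [Sel, Matrix.mul_apply, Matrix.one_apply]
    rw [← Matrix.mul_assoc, this, Matrix.mul_adjugate, smul_smul]
  obtain ⟨u, hu⟩ := ht
  refine ⟨R₀.mulVec ((↑u⁻¹ : R) • v), ?_⟩
  rw [Matrix.mulVec_mulVec, hMR, ← hu, Matrix.smul_mulVec, Matrix.one_mulVec, smul_smul,
    Units.mul_inv, one_smul]

end Groth.Agent.H23LGAz
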