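import Groth.Agent.H23LGAz.Criterion
import Groth.Agent.H18Az.Criterion
import Groth.Agent.H29CSA.Modules
import Mathlib.RingTheory.Flat.LocallyFree
import Mathlib.RingTheory.Spectrum.Prime.FreeLocus

/-! # Modules over Azumaya algebras over LG-rings -/

set_option autoImplicit false

universe u v w w'

open TensorProduct MvPolynomial

namespace Groth.Agent.H23LGAz

variable {R : Type u} [CommRing R] {A : Type v} [Ring A] [Algebra R A]

theorem projective_restrict [Module.Finite R A] [Module.Projective R A] (M : Type w) [AddCommGroup M]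
    [Module A M] [Module R M] [IsScalarTower R A M] [Module.Finite A M] [Module.Projective A M] :
    Module.Projective R M := by
  obtain ⟨k, p, hp⟩ := Module.Finite.exists_fin' A M
  obtain ⟨s, hs⟩ := Module.projective_lifting_property p LinearMap.id hp
  obtain ⟨c, q, hq⟩ := Module.Finite.exists_fin' R A
  obtain ⟨t, ht⟩ := Module.projective_lifting_property q LinearMap.id hq
  haveI : Module.Projective R (Fin k → A) := Module.Projective.of_split
    (P := Fin k → A) (M := Fin k → Fin c → R) (LinearMap.compLeft t (Fin k)) (LinearMap.compLeft q (Fin k))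
    (LinearMap.ext fun x => funext fun i => LinearMap.congr_fun ht (x i))
  exact Module.Projective.of_split (s.restrictScalars R) (p.restrictScalars R)
    (LinearMap.ext fun x => LinearMap.congr_fun hs x)

theorem finrank_residue_eq (N : Type w) [AddCommGroup N] [Module R N] [Module.Finite R N]
    [Module.Projective R N] (m : Ideal R) [hm : m.IsMaximal] :
    Module.finrank (R ⧸ m) ((R ⧸ m) ⊗[R] N) =
      Module.rankAtStalk (R := R) N ⟨m, hm.isPrime⟩ := by
  letI := Ideal.Quotient.field m
  let Q : PrimeSpectrum (R ⧸ m) := ⟨⊥, Ideal.isPrime_bot⟩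
  have hQ : Q.comap (algebraMap R (R ⧸ m)) = ⟨m, hm.isPrime⟩ := PrimeSpectrum.ext (by
    change Ideal.comap (Ideal.Quotient.mk m) ⊥ = m
    exact Ideal.mk_ker)
  rw [← hQ, ← Module.rankAtStalk_baseChange, Module.rankAtStalk_eq_finrank_of_free]
  rfl

section field

variable (κ : Type u) [Field κ] (B : Type v) [Ring B] [Algebra κ B] [IsSimpleRing B]
  [FiniteDimensional κ B] (M : Type w) [AddCommGroup M] [Module B M] [Module κ M] [IsScalarTower κ B M]
  [FiniteDimensional κ M] (N : Type w') [AddCommGroup N] [Module B N] [Module κ N]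
  [IsScalarTower κ B N] [FiniteDimensional κ N]

theorem exists_surjective_of_finrank_le (h : Module.finrank κ N ≤ Module.finrank κ M) :
    ∃ f : M →ₗ[B] N, Function.Surjective f := by
  obtain ⟨S, hS⟩ := Groth.Agent.H29CSA.exists_simple κ B
  haveI := hS
  haveI : Module.Finite B M := Module.Finite.of_restrictScalars_finite κ B M
  haveI : Module.Finite B N := Module.Finite.of_restrictScalars_finite κ B N
  obtain ⟨a, ⟨e⟩⟩ := Groth.Agent.H29CSA.exists_equiv_fin_fun κ B M S
  obtain ⟨c, ⟨e'⟩⟩ := Groth.Agent.H29CSA.exists_equiv_fin_fun κ B N S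
  haveI : FiniteDimensional κ S := FiniteDimensional.finiteDimensional_submodule (S.restrictScalars κ)
  haveI := IsSimpleModule.nontrivial B S
  rw [(e.restrictScalars κ).finrank_eq, (e'.restrictScalars κ).finrank_eq,
    Module.finrank_pi_fintype, Module.finrank_pi_fintype] at h
  simp only [Finset.sum_const, Finset.card_univ, Fintype.card_fin, smul_eq_mul] at h
  have hca : c ≤ a := Nat.le_of_mul_le_mul_right h Module.finrank_pos
  exact ⟨e'.symm.toLinearMap ∘ₗ LinearMap.funLeft B S (Fin.castLE hca) ∘ₗ e.toLinearMap,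
    e'.symm.surjective.comp ((LinearMap.funLeft_surjective_of_injective B S _
      (Fin.castLE_injective hca)).comp e.surjective)⟩

end field

/-- Action of `A` on a base change. -/
noncomputable def repBC (κ : Type u) [CommRing κ] [Algebra R κ] (N : Type w) [AddCommGroup N]
    [Module A N] [Module R N] [IsScalarTower R A N] :
    κ ⊗[R] A →ₐ[κ] Module.End κ (κ ⊗[R] N) :=
  Algebra.TensorProduct.lift (Algebra.ofId κ _)
    { toFun := fun a => ((Algebra.lsmul R R N a : Module.End R N)).baseChange κ
      map_one' := by rw [map_one]; exact LinearMap.baseChange_id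
      map_mul' := fun a b => by rw [map_mul]; exact LinearMap.baseChange_comp _ _
      map_zero' := by rw [map_zero]; exact LinearMap.baseChange_zero
      map_add' := fun a b => by rw [map_add]; exact LinearMap.baseChange_add _ _
      commutes' := fun r => by
        ext n; simp [Algebra.algebraMap_eq_smul_one, TensorProduct.tmul_smul, TensorProduct.smul_tmul'] }
    fun c a => Algebra.commutes c _

theorem repBC_apply (κ : Type u) [CommRing κ] [Algebra R κ] (N : Type w) [AddCommGroup N]
    [Module A N] [Module R N] [IsScalarTower R A N] (c : κ) (a : A) (n : N) :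
    repBC (R := R) (A := A) κ N (1 ⊗ₜ[R] a) (c ⊗ₜ[R] n) = c ⊗ₜ[R] (a • n) := by
  rw [repBC]
  erw [Algebra.TensorProduct.lift_tmul]
  simp

theorem exists_lift_surjective [IsAzumaya R A] (M : Type w) (N : Type w') [AddCommGroup M] [Module A M]
    [Module R M] [IsScalarTower R A M] [Module.Finite A M] [Module.Projective A M]
    [AddCommGroup N] [Module A N] [Module R N] [IsScalarTower R A N] [Module.Finite A N]
    [Module.Projective A N] (m : Ideal R) [hm : m.IsMaximal]
    (h : Module.rankAtStalk (R := R) N ⟨m, hm.isPrime⟩ ≤ Module.rankAtStalk (R := R) M ⟨m, hm.isPrime⟩) :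
    ∃ f : M →ₗ[A] N, ∀ y : N, ∃ x : M, (1 : R ⧸ m) ⊗ₜ[R] f x = (1 : R ⧸ m) ⊗ₜ[R] y := by
  letI := Ideal.Quotient.field m
  haveI := projective_restrict (R := R) (A := A) M
  haveI := projective_restrict (R := R) (A := A) N
  haveI : Module.Finite R M := Module.Finite.trans A M
  haveI : Module.Finite R N := Module.Finite.trans A N
  let κ := R ⧸ m
  haveI : IsAzumaya κ (κ ⊗[R] A) := Groth.Agent.H23Az.isAzumaya_baseChange R κ A
  obtain ⟨hc, hs⟩ := (H18Az.Criterion.isAzumaya_field_iff κ (κ ⊗[R] A)).mp ‹_›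
  letI : Module (κ ⊗[R] A) (κ ⊗[R] M) := Module.compHom _ (repBC κ M).toRingHom
  letI : Module (κ ⊗[R] A) (κ ⊗[R] N) := Module.compHom _ (repBC κ N).toRingHom
  haveI : IsScalarTower κ (κ ⊗[R] A) (κ ⊗[R] M) := ⟨fun c b z =>
    show repBC κ M (c • b) z = c • repBC κ M b z by rw [map_smul]; rfl⟩
  haveI : IsScalarTower κ (κ ⊗[R] A) (κ ⊗[R] N) := ⟨fun c b z =>
    show repBC κ N (c • b) z = c • repBC κ N b z by rw [map_smul]; rfl⟩
  rw [← finrank_residue_eq, ← finrank_residue_eq] at h
  obtain ⟨g, hg⟩ := exists_surjective_of_finrank_le κ (κ ⊗[R] A) (κ ⊗[R] M) (κ ⊗[R] N) h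
  let ι : A →ₐ[R] κ ⊗[R] A := Algebra.TensorProduct.includeRight
  letI : Module A (κ ⊗[R] N) := Module.compHom _ ((repBC κ N).toRingHom.comp ι.toRingHom)
  let qN : N →ₗ[A] κ ⊗[R] N :=
    { toFun := fun n => (1 : κ) ⊗ₜ[R] n
      map_add' := fun a b => TensorProduct.tmul_add _ _ _
      map_smul' := fun a n => (repBC_apply κ N 1 a n).symm }
  have hqN : Function.Surjective qN :=
    TensorProduct.mk_surjective R N κ Ideal.Quotient.mk_surjective
  let gq : M →ₗ[A] κ ⊗[R] N :=
    { toFun := fun x => g ((1 : κ) ⊗ₜ[R] x)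
      map_add' := fun a b => by rw [TensorProduct.tmul_add, map_add]
      map_smul' := fun a x => by
        change g ((1 : κ) ⊗ₜ[R] (a • x)) = ι a • g ((1 : κ) ⊗ₜ[R] x)
        rw [← map_smul]
        exact congrArg g (repBC_apply κ M 1 a x).symm }
  obtain ⟨f, hf⟩ := Module.projective_lifting_property qN gq hqN
  refine ⟨f, fun y => ?_⟩
  obtain ⟨z, hz⟩ := hg ((1 : κ) ⊗ₜ[R] y)
  obtain ⟨x, rfl⟩ := TensorProduct.mk_surjective R M κ Ideal.Quotient.mk_surjective z
  exact ⟨x, (LinearMap.congr_fun hf x).trans hz⟩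

theorem exists_surjective (hR : LGRing.IsLGRing R) [IsAzumaya R A] (M : Type w) (N : Type w')
    [AddCommGroup M] [Module A M] [Module R M] [IsScalarTower R A M] [Module.Finite A M]
    [Module.Projective A M] [AddCommGroup N] [Module A N] [Module R N] [IsScalarTower R A N]
    [Module.Finite A N] [Module.Projective A N]
    (h : ∀ p : PrimeSpectrum R, Module.rankAtStalk (R := R) N p ≤ Module.rankAtStalk (R := R) M p) :
    ∃ f : M →ₗ[A] N, Function.Surjective f := by
  classical
  haveI := projective_restrict (R := R) (A := A) N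
  haveI : Module.Finite R M := Module.Finite.trans A M
  haveI : Module.Finite R N := Module.Finite.trans A N
  haveI : SMulCommClass A R N := IsScalarTower.to_smulCommClass'
  obtain ⟨k, p, hp⟩ := Module.Finite.exists_fin' A M
  obtain ⟨s, hs⟩ := Module.projective_lifting_property p LinearMap.id hp
  obtain ⟨b, pN, hpN⟩ := Module.Finite.exists_fin' R N
  obtain ⟨iN, hiN⟩ := Module.projective_lifting_property pN LinearMap.id hpN
  have hpi : ∀ y, pN (iN y) = y := fun y => LinearMap.congr_fun hiN y
  obtain ⟨a, gens, hgens⟩ := Module.Finite.exists_fin (R := R) (M := M)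
  -- the parametrised family of maps
  let w : Fin b → N := fun i => pN (Pi.basisFun R (Fin b) i)
  let Ψ : (Fin k × Fin b → R) → (M →ₗ[A] N) := fun x =>
    (∑ j, (LinearMap.toSpanSingleton A N (∑ i, x (j, i) • w i)).comp (LinearMap.proj j)).comp s
  have hΨ : ∀ x z, Ψ x z = ∑ j, ∑ i, x (j, i) • (s z j • w i) := fun x z => by
    simp only [Ψ, LinearMap.comp_apply, LinearMap.sum_apply, LinearMap.toSpanSingleton_apply,
      LinearMap.proj_apply, Finset.smul_sum]
    exact Finset.sum_congr rfl fun j _ => Finset.sum_congr rfl fun i _ => smul_comm _ _ _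
  have hΨsurj : ∀ f : M →ₗ[A] N, ∃ x, Ψ x = f := fun f => by
    obtain ⟨X, hX⟩ : ∃ X : Fin k × Fin b → R, X = fun q => iN (f (p (Pi.single q.1 1))) q.2 := ⟨_, rfl⟩
    refine ⟨X, ?_⟩
    ext z
    have hsum : ∀ j, ∑ i, iN (f (p (Pi.single j 1))) i • w i = f (p (Pi.single j 1)) := fun j => by
      simp only [w, ← map_smul, ← map_sum]
      rw [show (∑ i, iN (f (p (Pi.single j 1))) i • Pi.basisFun R (Fin b) i) =
        iN (f (p (Pi.single j 1))) from (Pi.basisFun R (Fin b)).sum_repr _, hpi]
    rw [hΨ]
    subst hX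
    conv_rhs => rw [← show p (s z) = z from LinearMap.congr_fun hs z,
      show s z = ∑ j, s z j • Pi.single j (1 : A) from pi_eq_sum_univ' (s z), map_sum, map_sum]
    refine Finset.sum_congr rfl fun j _ => ?_
    rw [map_smul, map_smul, ← hsum j, Finset.smul_sum]
    exact Finset.sum_congr rfl fun i _ => smul_comm _ _ _
  let Φ : Matrix (Fin b) (Fin a ⊕ Fin b) (MvPolynomial (Fin k × Fin b) R) := Matrix.of fun r col =>
    Sum.elim (fun c => ∑ j, ∑ i, X (j, i) * C (iN (s (gens c) j • w i) r))
      (fun e => C (Pi.basisFun R (Fin b) e r - iN (pN (Pi.basisFun R (Fin b) e)) r)) col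
  have hcol : ∀ (x : Fin k × Fin b → R) (u : Fin a ⊕ Fin b → R),
      (Φ.map (eval x)).mulVec u = iN (Ψ x (∑ c, u (Sum.inl c) • gens c)) +
        ((fun e => u (Sum.inr e)) - iN (pN fun e => u (Sum.inr e))) := by
    intro x u
    funext r
    simp only [Matrix.mulVec, dotProduct, Matrix.map_apply, Φ, Matrix.of_apply, Fintype.sum_sum_type,
      Sum.elim_inl, Sum.elim_inr, eval_sum, map_mul, eval_X, eval_C, Pi.add_apply, Pi.sub_apply]
    congr 1
    · rw [map_sum, map_sum, Finset.sum_apply]
      refine Finset.sum_congr rfl fun c _ => ?_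
      rw [LinearMap.map_smul_of_tower, map_smul, Pi.smul_apply, smul_eq_mul, hΨ, mul_comm]
      simp [Finset.sum_apply]
    · conv_rhs => rw [← (Pi.basisFun R (Fin b)).sum_repr (fun e => u (Sum.inr e))]
      simp only [map_sum, map_smul, Pi.basisFun_repr, Finset.sum_apply, Pi.smul_apply, smul_eq_mul,
        sub_mul, Finset.sum_sub_distrib]
      congr 1
      · simp [Pi.single_apply]
      · exact Finset.sum_congr rfl fun e _ => mul_comm _ _
  obtain ⟨x, hx⟩ := exists_surjective_point hR Φ fun m hm => by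
    letI := Ideal.Quotient.field m
    obtain ⟨f, hf⟩ := exists_lift_surjective (A := A) M N m (h ⟨m, hm.isPrime⟩)
    obtain ⟨x, rfl⟩ := hΨsurj f
    refine ⟨x, fun v => ?_⟩
    obtain ⟨v, rfl⟩ : ∃ v' : Fin b → R, Ideal.Quotient.mk m ∘ v' = v :=
      ⟨fun i => (Ideal.Quotient.mk_surjective (v i)).choose,
        funext fun i => (Ideal.Quotient.mk_surjective (v i)).choose_spec⟩
    obtain ⟨z, hz⟩ := hf (pN v)
    have hzspan : z ∈ Submodule.span R (Set.range gens) := by rw [hgens]; trivial
    obtain ⟨u, rfl⟩ := (Submodule.mem_span_range_iff_exists_fun R).mp hzspan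
    refine ⟨Ideal.Quotient.mk m ∘ Sum.elim u v, ?_⟩
    funext r
    have hfun : ∀ (ψ : N →ₗ[R] R) y y', (1 : R ⧸ m) ⊗ₜ[R] y = (1 : R ⧸ m) ⊗ₜ[R] y' →
        Ideal.Quotient.mk m (ψ y) = Ideal.Quotient.mk m (ψ y') := fun ψ y y' e => by
      have := congrArg (fun t => TensorProduct.rid R (R ⧸ m) (ψ.lTensor (R ⧸ m) t)) e
      simpa [Algebra.smul_def] using this
    rw [show ((Φ.map (eval x)).map (Ideal.Quotient.mk m)).mulVec
        (Ideal.Quotient.mk m ∘ Sum.elim u v) r =
        Ideal.Quotient.mk m ((Φ.map (eval x)).mulVec (Sum.elim u v) r) from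
      (RingHom.map_mulVec _ _ _ r).symm, hcol]
    simp only [Sum.elim_inl, Sum.elim_inr, Pi.add_apply, Pi.sub_apply, map_add, map_sub]
    have e := hfun ((LinearMap.proj r).comp iN) _ _ hz
    simp only [LinearMap.comp_apply, LinearMap.proj_apply] at e
    rw [e]
    simp
  refine ⟨Ψ x, fun y => ?_⟩
  obtain ⟨u, hu⟩ := hx (iN y)
  rw [hcol] at hu
  have := congrArg pN hu
  rw [map_add, map_sub, hpi, hpi, hpi, sub_self, add_zero] at this
  exact ⟨_, this⟩

theorem nonempty_equiv (hR : LGRing.IsLGRing R) [IsAzumaya R A] (M : Type w) (N : Type w')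
    [AddCommGroup M] [Module A M] [Module R M] [IsScalarTower R A M] [Module.Finite A M]
    [Module.Projective A M] [AddCommGroup N] [Module A N] [Module R N] [IsScalarTower R A N]
    [Module.Finite A N] [Module.Projective A N]
    (h : ∀ p : PrimeSpectrum R, Module.rankAtStalk (R := R) N p = Module.rankAtStalk (R := R) M p) :
    Nonempty (M ≃ₗ[A] N) := by
  obtain ⟨f, hf⟩ := exists_surjective (A := A) hR M N fun p => (h p).le
  haveI : Module.Projective R M := projective_restrict (R := R) (A := A) M
  haveI : Module.Projective R N := projective_restrict (R := R) (A := A) N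
  haveI : Module.Finite R M := Module.Finite.trans A M
  haveI : Module.Finite R N := Module.Finite.trans A N
  exact ⟨LinearEquiv.ofBijective f (Module.bijective_of_surjective_of_rankAtStalk_eq (R := R)
    (M := M) (N := N) (φ := f.restrictScalars R) hf fun m _ => (h _).symm)⟩

end Groth.Agent.H23LGAz
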